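import Groth.Prelude.Def_ActBC

/-!
# Restricting actions and equivariant isomorphisms along homomorphisms of groups
-/

set_option autoImplicit false
set_option backward.isDefEq.respectTransparency false
set_option backward.isDefEq.respectTransparency.types false

noncomputable section

open CategoryTheory CategoryTheory.Limits MonoidalCategory CartesianMonoidalCategory AlgebraicGeometry

universe u

namespace Groth.Agent.BCRestrict

variable {S : Scheme.{u}} {G H K X X' : Over S} [GrpObj G] [GrpObj H] [GrpObj K]

/-- An equivariant isomorphism stays one after restriction along a homomorphism. -/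
def equivRestrict {a : AlgGrp.Action G X} {b : AlgGrp.Action G X'} (e : NonAbH1.EquivIso a b) (φ : H ⟶ G)
    [IsMonHom φ] : NonAbH1.EquivIso (a.restrict φ) (b.restrict φ) where
  iso := e.iso
  comm := by
    rw [AlgGrp.Action.restrict_act, AlgGrp.Action.restrict_act, Category.assoc, e.comm, ← Category.assoc,
      ← whisker_exchange, Category.assoc]

theorem restrict_restrict (a : AlgGrp.Action G X) (φ : H ⟶ G) [IsMonHom φ] (ψ : K ⟶ H) [IsMonHom ψ] :
    (a.restrict φ).restrict ψ = a.restrict (ψ ≫ φ) :=
  AlgGrp.Action.ext' (by
    rw [AlgGrp.Action.restrict_act, AlgGrp.Action.restrict_act, AlgGrp.Action.restrict_act, comp_whiskerRight,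
      Category.assoc])

theorem restrict_congr (a : AlgGrp.Action G X) {φ ψ : H ⟶ G} [IsMonHom φ] [IsMonHom ψ] (h : φ = ψ) :
    a.restrict φ = a.restrict ψ := by
  subst h; rfl

theorem isPseudoTorsor_restrict {a : AlgGrp.Action G X} (h : NonAbH1.IsPseudoTorsorSch a) (φ : H ⟶ G)
    [IsMonHom φ] [IsIso φ] : NonAbH1.IsPseudoTorsorSch (a.restrict φ) := by
  have : IsIso (lift a.act (snd G X)) := h
  have e : lift (a.restrict φ).act (snd H X) = (φ ▷ X) ≫ lift a.act (snd G X) := by
    rw [comp_lift, whiskerRight_snd, AlgGrp.Action.restrict_act]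
  unfold NonAbH1.IsPseudoTorsorSch
  rw [e]
  infer_instance

end Groth.Agent.BCRestrict
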